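import Cfsg.Agent.H59.Bs.Tor
import Cfsg.Agent.H177.InvolOrth

/-!
# S5733, BS07: symplectic blocks of type minus (helper59)
-/

set_option autoImplicit false
set_option linter.unusedSectionVars false

namespace Cfsg.Agent.H59.Bs

open Cfsg.Agent.H847.Bs Module
open scoped IntermediateField

section Equiv

variable {F V V' : Type*} [Field F] [AddCommGroup V] [Module F V] [AddCommGroup V'] [Module F V']

/-- the bilinear form of a symplectic space -/
noncomputable def bil {Φ : Frm F V} (h : IsSp Φ) : LinearMap.BilinForm F V :=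
  LinearMap.mk₂ F Φ.B Φ.add_left Φ.smul_left Φ.add_right fun a x y => by rw [Φ.smul_right, h.s, smul_eq_mul]

theorem bil_apply {Φ : Frm F V} (h : IsSp Φ) (x y : V) : bil h x y = Φ.B x y := rfl

theorem bil_alt {Φ : Frm F V} (h : IsSp Φ) : (bil h).IsAlt := fun x => h.alt x

theorem bil_nd {Φ : Frm F V} (h : IsSp Φ) : (bil h).Nondegenerate := by
  constructor
  · intro x hx
    exact h.nd x hx
  · intro x hx
    exact h.nd x fun y => Φ.refl _ _ (hx y)

/-- symplectic spaces of the same dimension are isometric -/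
theorem exists_equiv [FiniteDimensional F V] [FiniteDimensional F V'] {Φ : Frm F V} {Φ' : Frm F V'} (h : IsSp Φ)
    (h' : IsSp Φ') (hd : finrank F V = finrank F V') :
    ∃ e : V ≃ₗ[F] V', (∀ x y, Φ'.B (e x) (e y) = Φ.B x y) ∧ ∀ x, Φ'.q (e x) = Φ.q x := by
  obtain ⟨e, he⟩ := Cfsg.Agent.H177.InvolOrth.exists_alt_equiv (bil h) (bil h') (bil_alt h) (bil_alt h') (bil_nd h)
    (bil_nd h') hd
  exact ⟨e, he, fun x => by rw [h'.q, h.q]⟩

theorem symm_isom {Φ : Frm F V} {Φ' : Frm F V'} {e : V ≃ₗ[F] V'} (hB : ∀ x y, Φ'.B (e x) (e y) = Φ.B x y)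
    (hq : ∀ x, Φ'.q (e x) = Φ.q x) : (∀ x y, Φ.B (e.symm x) (e.symm y) = Φ'.B x y) ∧ ∀ x, Φ.q (e.symm x) = Φ'.q x := by
  refine ⟨fun x y => ?_, fun x => ?_⟩
  · rw [← hB, e.apply_symm_apply, e.apply_symm_apply]
  · rw [← hq, e.apply_symm_apply]

end Equiv

section Field

variable {F L : Type*} [Field F] [Field L] [Algebra F L] [Finite L]

/-- the symplectic form on `L` -/
noncomputable def frmL (τ : L ≃ₐ[F] L) (hτ : ∀ x, τ (τ x) = x) (b : L) : Frm F L where
  B x y := Algebra.trace F L ((b - τ b) * x * τ y)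
  q _ := 0
  s a := a
  add_left x y z := by rw [← map_add]; congr 1; ring
  add_right x y z := by rw [← map_add, map_add]; congr 1; ring
  smul_left a x y := by
    have h : (b - τ b) * (a • x) * τ y = a • ((b - τ b) * x * τ y) := by rw [mul_smul_comm, smul_mul_assoc]
    rw [h, LinearMap.map_smul, smul_eq_mul]
  smul_right a x y := by
    have h : (b - τ b) * x * τ (a • y) = a • ((b - τ b) * x * τ y) := by
      rw [show τ (a • y) = a • τ y from τ.toLinearMap.map_smul a y, mul_smul_comm]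
    rw [h, LinearMap.map_smul, smul_eq_mul]
  refl x y h := by
    rw [← Algebra.trace_eq_of_algEquiv τ]
    have h1 : τ ((b - τ b) * y * τ x) = - ((b - τ b) * x * τ y) := by
      rw [map_mul, map_mul, map_sub, hτ, hτ]
      ring
    rw [h1, map_neg, h, neg_zero]
  q_add _ _ _ := (add_zero _).symm

variable {τ : L ≃ₐ[F] L} {hτ : ∀ x, τ (τ x) = x} {b : L}

theorem trace_nd (h : ∀ y, Algebra.trace F L (b * τ y) = 0) : b = 0 := by
  have hF : Finite F := Finite.of_injective _ (algebraMap F L).injective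
  have hfd : FiniteDimensional F L := Module.Finite.of_finite
  refine (traceForm_nondegenerate F L).1 b fun z => ?_
  rw [Algebra.traceForm_apply]
  have := h (τ.symm z)
  rwa [τ.apply_symm_apply] at this

theorem isSp_frmL (hb : τ b ≠ b) : IsSp (frmL τ hτ b) where
  nd x hx := by
    have h1 := trace_nd (b := (b - τ b) * x) hx
    rcases mul_eq_zero.1 h1 with h2 | h2
    · exact absurd (sub_eq_zero.1 h2).symm hb
    · exact h2
  s _ := rfl
  q _ := rfl
  alt x := by
    show Algebra.trace F L ((b - τ b) * x * τ x) = 0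
    have h1 : (b - τ b) * x * τ x = b * (x * τ x) - τ (b * (x * τ x)) := by
      rw [map_mul, map_mul, hτ]
      ring
    rw [h1, map_sub, Algebra.trace_eq_of_algEquiv, sub_self]

theorem mulE_mem (t : Lˣ) (ht : (t : L) * τ t = 1) : mulE F t ∈ (frmL τ hτ b).Iso := by
  refine ⟨fun x y => ?_, fun _ => rfl⟩
  show Algebra.trace F L ((b - τ b) * (t * x) * τ (t * y)) = Algebra.trace F L ((b - τ b) * x * τ y)
  congr 1
  rw [map_mul]
  calc (b - τ b) * (↑t * x) * (τ ↑t * τ y) = (t * τ t) * ((b - τ b) * x * τ y) := by ring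
    _ = _ := by rw [ht, one_mul]

theorem of_mulE_mem (hb : τ b ≠ b) {t : Lˣ} (h : mulE F t ∈ (frmL τ hτ b).Iso) : (t : L) * τ t = 1 := by
  have h1 : ∀ y, Algebra.trace F L ((b - τ b) * (t * τ t - 1) * τ y) = 0 := by
    intro y
    have h2 : Algebra.trace F L ((b - τ b) * (t * 1) * τ (t * y)) = Algebra.trace F L ((b - τ b) * 1 * τ y) := h.1 1 y
    rw [← sub_eq_zero, ← map_sub] at h2
    rw [← h2]
    congr 1
    rw [map_mul]
    ring
  rcases mul_eq_zero.1 (trace_nd h1) with h2 | h2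
  · exact absurd (sub_eq_zero.1 h2).symm hb
  · exact sub_eq_zero.1 h2

/-- the count on `L` -/
theorem minus_L {j : ℕ} (hj : finrank F L = 2 * j) (hj0 : 0 < j) (hτq : ∀ x, τ x = x ^ Nat.card F ^ j) (hb : τ b ≠ b) :
    ar j / (2 * j) * Nat.card (frmL τ hτ b).Iso ≤ (Nat.card (frmL τ hτ b).Bm : ℝ) := by
  classical
  have hF : Finite F := Finite.of_injective _ (algebraMap F L).injective
  have hfd : FiniteDimensional F L := Module.Finite.of_finite
  have hfe : Finite (L ≃ₗ[F] L) := Finite.of_injective _ DFunLike.coe_injective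
  set q := Nat.card F with hq
  have hq2 : 2 ≤ q := Finite.one_lt_card
  set G := (frmL τ hτ b).Iso with hG
  have hTeq : ∀ t : Lˣ, t ^ (q ^ j + 1) = 1 ↔ (t : L) * τ t = 1 := by
    intro t
    rw [hτq, ← pow_succ', ← Units.val_inj]
    simp
  let T : Set Lˣ := {t | t ^ (q ^ j + 1) = 1}
  let S : Set Lˣ := {t | t ^ (q ^ j + 1) = 1 ∧ F⟮(t : L)⟯ = ⊤}
  let E : Set (L ≃ₗ[F] L) := (mulE F) '' S
  have hES : Nat.card E = Nat.card S := Nat.card_image_of_injective mulE_injective S
  have key := card_pairs G E (frmL τ hτ b).Bm (2 * j * Nat.card T) (by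
      rintro _ ⟨t, ht, rfl⟩
      have h1 := card_conj_le G T (fun c hc => (hTeq c).2 (of_mulE_mem hb hc)) ht.2 E
        (by rintro _ ⟨u, _, rfl⟩; exact ⟨u, rfl⟩)
      rwa [hj] at h1) (by
      rintro g hg _ ⟨t, ht, rfl⟩
      refine ⟨G.mul_mem (G.mul_mem hg (mulE_mem t ((hTeq t).1 ht.1))) (G.inv_mem hg), ?_⟩
      have h2 := Irr_cj (e := g) (irr_mulE ht.2)
      rw [Submodule.map_top, LinearMap.range_eq_top.2 g.surjective] at h2
      exact h2)
  rw [hES] at key
  have hL : Nat.card L = (q ^ j) ^ 2 := by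
    rw [Module.natCard_eq_pow_finrank (K := F), hj, ← pow_mul, mul_comm 2 j]
  have hQ1 : 1 < q ^ j := Nat.one_lt_pow hj0.ne' hq2
  have hT : q ^ j + 1 ≤ Nat.card T := card_tor hQ1 hL
  have hbad := card_bad (F := F) (L := L) hj hj0
  have hsplit : Nat.card T ≤ Nat.card S + Nat.card {t : Lˣ // t ^ (q ^ j + 1) = 1 ∧ F⟮(t : L)⟯ ≠ ⊤} := by
    have h3 : T = S ∪ {t | t ^ (q ^ j + 1) = 1 ∧ F⟮(t : L)⟯ ≠ ⊤} := by
      ext t
      constructor
      · intro ht
        by_cases h : F⟮(t : L)⟯ = ⊤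
        · exact Or.inl ⟨ht, h⟩
        · exact Or.inr ⟨ht, h⟩
      · rintro (h | h)
        · exact h.1
        · exact h.1
    rw [h3]
    exact Set.ncard_union_le _ _
  have hnum := num (j := j) hq2
  have hSr : ar j * Nat.card T ≤ (Nat.card S : ℝ) := by
    have h4 : (Nat.card T : ℝ) ≤ Nat.card S + (16 * (4 / 5 : ℝ) ^ j * (q ^ j + 1)) := by
      have h5 : (Nat.card T : ℝ) ≤ Nat.card S + ((2 + ∑ e ∈ Finset.Icc 1 (j / 3), (q ^ e + 1) : ℕ) : ℝ) := by
        exact_mod_cast hsplit.trans (Nat.add_le_add_left hbad _)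
      linarith
    have h6 : (16 * (4 / 5 : ℝ) ^ j * (q ^ j + 1)) ≤ 16 * (4 / 5 : ℝ) ^ j * Nat.card T := by
      apply mul_le_mul_of_nonneg_left _ (by positivity)
      exact_mod_cast hT
    unfold ar
    linarith
  have hTpos : (0 : ℝ) < Nat.card T := by
    have : 0 < Nat.card T := by omega
    exact_mod_cast this
  have hjpos : (0 : ℝ) < j := by exact_mod_cast hj0
  have keyr : (Nat.card G : ℝ) * Nat.card S ≤ Nat.card (frmL τ hτ b).Bm * (2 * j * Nat.card T) := by exact_mod_cast key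
  have h7 : (Nat.card G : ℝ) * (ar j * Nat.card T) ≤ Nat.card (frmL τ hτ b).Bm * (2 * j * Nat.card T) :=
    (mul_le_mul_of_nonneg_left hSr (Nat.cast_nonneg _)).trans keyr
  rw [div_mul_eq_mul_div, div_le_iff₀ (by positivity)]
  have h8 : (ar j * Nat.card G) * Nat.card T ≤ (Nat.card (frmL τ hτ b).Bm * (2 * j)) * Nat.card T := by
    calc (ar j * Nat.card G) * Nat.card T = (Nat.card G : ℝ) * (ar j * Nat.card T) := by ring
      _ ≤ _ := h7
      _ = _ := by ring
  exact le_of_mul_le_mul_right h8 hTpos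

end Field

/-- **blocks of type minus, symplectic case** -/
theorem sp_minus {F V : Type*} [Field F] [Finite F] [AddCommGroup V] [Module F V] [FiniteDimensional F V] {Φ : Frm F V}
    (hΦ : IsSp Φ) {j : ℕ} (hj : 1 ≤ j) (hd : finrank F V = 2 * j) :
    ar j / (2 * j) * Nat.card Φ.Iso ≤ (Nat.card Φ.Bm : ℝ) := by
  obtain ⟨p, hp⟩ := CharP.exists F
  have hpp : Fact p.Prime := ⟨(CharP.char_is_prime_or_zero F p).resolve_right (CharP.char_ne_zero_of_finite F p)⟩
  have hnz : NeZero (2 * j) := ⟨by omega⟩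
  let L := FiniteField.Extension F p (2 * j)
  let τ : L ≃ₐ[F] L := FiniteField.Extension.frob F p (2 * j) ^ j
  have hLf : finrank F L = 2 * j := FiniteField.finrank_extension F p (2 * j)
  have hLc : Nat.card L = Nat.card F ^ (2 * j) := FiniteField.natCard_extension F p (2 * j)
  have hτq : ∀ x, τ x = x ^ Nat.card F ^ j := fun x => FiniteField.Extension.frob_iterate_apply F p (2 * j) j
  have hττ : ∀ x, τ (τ x) = x := by
    intro x
    have := Fintype.ofFinite L
    rw [hτq, hτq, ← pow_mul, ← pow_add, ← two_mul, ← hLc, Nat.card_eq_fintype_card]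
    exact FiniteField.pow_card x
  have hq2 : 2 ≤ Nat.card F := Finite.one_lt_card
  obtain ⟨b, hb⟩ : ∃ b, τ b ≠ b := by
    by_contra hno
    push Not at hno
    have h1 : ∀ x : Lˣ, x ^ (Nat.card F ^ j - 1) = 1 := by
      intro x
      have h2 := hno x
      rw [hτq] at h2
      apply Units.ext
      rw [Units.val_pow_eq_pow_val, Units.val_one]
      have h3 : (x : L) ^ Nat.card F ^ j = x ^ (Nat.card F ^ j - 1) * x := by
        rw [← pow_succ, Nat.sub_add_cancel (Nat.one_le_pow _ _ (by omega))]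
      rw [h3] at h2
      exact mul_right_cancel₀ x.ne_zero (by rw [h2, one_mul])
    have h4 := card_pow_le (L := L) (Nat.card F ^ j - 1) (by
      have := Nat.one_lt_pow (n := j) (by omega) hq2
      omega)
    have h5 : Nat.card {t : Lˣ // t ^ (Nat.card F ^ j - 1) = 1} = Nat.card Lˣ :=
      Nat.card_congr (Equiv.subtypeUnivEquiv h1)
    rw [h5, Nat.card_units, hLc] at h4
    have h6 : Nat.card F ^ j < Nat.card F ^ (2 * j) := Nat.pow_lt_pow_right hq2 (by omega)
    have h7 := Nat.one_le_pow j (Nat.card F) (by omega)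
    omega
  have hsp : IsSp (frmL τ hττ b) := isSp_frmL hb
  have hfd : FiniteDimensional F L := Module.Finite.of_finite
  have hV : Finite V := Module.finite_of_finite F
  obtain ⟨e, he, hq⟩ := exists_equiv hΦ hsp (hd.trans hLf.symm)
  obtain ⟨he', hq'⟩ := symm_isom he hq
  have h1 := minus_L (F := F) (L := L) (hτ := hττ) hLf (by omega) hτq hb
  have h2 : Nat.card Φ.Iso ≤ Nat.card (frmL τ hττ b).Iso := card_Iso_le he hq
  have h3 : Nat.card (frmL τ hττ b).Bm ≤ Nat.card Φ.Bm := by
    have hfe : Finite (V ≃ₗ[F] V) := Finite.of_injective _ DFunLike.coe_injective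
    exact Nat.card_le_card_of_injective (fun x => (⟨cj e.symm x.1, Bm_cj he' hq' x.2⟩ : Φ.Bm))
      fun _ _ h => Subtype.ext (cj_injective e.symm (congrArg Subtype.val h))
  by_cases har : ar j ≤ 0
  · refine le_trans ?_ (Nat.cast_nonneg _)
    exact mul_nonpos_of_nonpos_of_nonneg (div_nonpos_of_nonpos_of_nonneg har (by positivity)) (Nat.cast_nonneg _)
  · push Not at har
    calc ar j / (2 * j) * (Nat.card Φ.Iso : ℝ) ≤ ar j / (2 * j) * Nat.card (frmL τ hττ b).Iso :=
          mul_le_mul_of_nonneg_left (by exact_mod_cast h2) (by positivity)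
      _ ≤ _ := h1
      _ ≤ _ := by exact_mod_cast h3

end Cfsg.Agent.H59.Bs
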