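import Cfsg.Agent.H59.Bs.OType
import Cfsg.Agent.H440.Bs.Rec
import Cfsg.Agent.H557.Bs.Glue

/-!
# S5733, BS12: decompositions of quadratic spaces with given types, `nQ` and `glue` (helper59)

* `exists_dec_plus`, `exists_dec_minus`;
* `conj_mem_nQ`, `glue_mem_nQ`.
-/

set_option autoImplicit false
set_option linter.unusedSectionVars false

namespace Cfsg.Agent.H59.Bs

open QuadraticMap Cfsg.Agent.LieClassical.OrthCore Cfsg.Agent.LieClassical.OrthTrans
  Cfsg.Agent.LieClassical.OrthFinite Cfsg.Agent.H847.Bs Module Cfsg.Agent.H765.Bs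

section

variable {F V : Type} [Field F] [AddCommGroup V] [Module F V] {Q : QuadraticForm F V}

theorem on_frmQ (D : Submodule F V) : (frmQ Q).on D = frmQ (Q.comp D.subtype) := rfl

theorem frmQ_nd : (frmQ Q).Nd ↔ Nondeg Q := Iff.rfl

theorem mem_Iso {g : V ≃ₗ[F] V} : g ∈ (frmQ Q).Iso ↔ g ∈ O Q :=
  ⟨fun h v => h.2 v, fun h => ⟨fun x y => polar_map h x y, fun x => h x⟩⟩

theorem exists_dec_plus [Finite F] [FiniteDimensional F V] (hQ : Nondeg Q) {N m : ℕ} (hN : finrank F V = 2 * N)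
    (hmN : m < N) : ∃ D U : Submodule F V, (frmQ Q).Dec D U ∧ finrank F D = 2 * m ∧
      PlusT (Q.comp D.subtype) ∧ (PlusT (Q.comp U.subtype) ↔ PlusT Q) := by
  obtain ⟨V', i1, i2, i3, Q', hQ', hd, e, he⟩ := split m V Q hQ (by omega)
  obtain ⟨D, U, hdec, h1, h2, h3, h4⟩ := int_dec (QD := qH F m) (QU := Q') e (fun x v => by rw [he, qH_apply])
  refine ⟨D, U, hdec, by rw [h1, finrank_H], h3.2 (plusT_qH m), ?_⟩
  rw [h4]
  exact (plus_hypk_iff m e he (n := N - m) (by omega)).symm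

theorem exists_dec_minus [Finite F] [FiniteDimensional F V] (hQ : Nondeg Q) {N m : ℕ} (hN : finrank F V = 2 * N)
    (hm : 1 ≤ m) (hmN : m < N) : ∃ D U : Submodule F V, (frmQ Q).Dec D U ∧ finrank F D = 2 * m ∧
      ¬ PlusT (Q.comp D.subtype) ∧ (PlusT (Q.comp U.subtype) ↔ ¬ PlusT Q) := by
  by_cases hP : PlusT Q
  · obtain ⟨V', i1, i2, i3, Q', hQ', hd, e, he⟩ := split (m - 1) V Q hQ (by omega)
    have hP' : PlusT Q' := (plus_hypk_iff (m - 1) e he (n := N - (m - 1)) (by omega)).1 hP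
    obtain ⟨P, hP2, hPn, hPm⟩ := exists_aniso_plane hQ' (by omega)
    have hdec := Cfsg.Agent.H440.Bs.dec_perp (frmQ Q') (frmQ_nd.2 hQ') hPn
    obtain ⟨U, hU⟩ : ∃ U, U = Cfsg.Agent.H440.Bs.perp (frmQ Q') P := ⟨_, rfl⟩
    rw [← hU] at hdec
    have hsum := Submodule.finrank_add_eq_of_isCompl hdec.compl
    have hPU : ∀ (p : P) (u : U), Q' ((p : V') + u) = Q' p + Q' u := by
      intro p u
      rw [Q_add, show polar Q' (p : V') u = 0 from hdec.orth p p.2 u u.2, add_zero]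
    have hUn : Nondeg (Q'.comp U.subtype) := Cfsg.Agent.H440.Bs.Dec.nd' hdec (frmQ_nd.2 hQ')
    have hUm : ¬ PlusT (Q'.comp U.subtype) := by
      intro h1
      apply hPm
      exact (plus_iff_of_plus (Submodule.prodEquivOfIsCompl P U hdec.compl) (QD := Q'.comp P.subtype)
        (QU := Q'.comp U.subtype) (fun p u => hPU p u) hUn h1 (a := 1) (b := N - m) (by omega) (by omega)).1 hP'
    let QD : QuadraticForm F ((Fin (m - 1) → F × F) × P) :=
      (qH F (m - 1)).comp (LinearMap.fst F (Fin (m - 1) → F × F) P) +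
        (Q'.comp P.subtype).comp (LinearMap.snd F (Fin (m - 1) → F × F) P)
    have hQD : ∀ x v, QD (x, v) = (∑ i, (x i).1 * (x i).2) + (Q'.comp P.subtype) v := by
      intro x v
      rw [← qH_apply]
      rfl
    have hDm : ¬ PlusT QD := by
      rwa [plus_hypk_iff (m - 1) (LinearEquiv.refl F _) (fun x v => hQD x v) (n := 1) (by omega)]
    obtain ⟨D, U', hdec', h1, h2, h3, h4⟩ := int_dec (QD := QD) (QU := Q'.comp U.subtype)
      (LinearEquiv.prodAssoc F (Fin (m - 1) → F × F) P U ≪≫ₗ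
        ((LinearEquiv.refl F (Fin (m - 1) → F × F)).prodCongr (Submodule.prodEquivOfIsCompl P U hdec.compl)) ≪≫ₗ e) (by
      rintro ⟨x, p⟩ u
      rw [hQD]
      change Q (e (x, ((p : V') + u))) = (∑ i, (x i).1 * (x i).2) + Q' p + Q' u
      rw [he, hPU, add_assoc])
    refine ⟨D, U', hdec', ?_, fun h => hDm (h3.1 h), ?_⟩
    · rw [h1, finrank_prod, finrank_H, hP2]; omega
    · rw [h4]
      exact iff_of_false hUm (not_not.2 hP)
  · obtain ⟨V', i1, i2, i3, Q', hQ', hd, e, he⟩ := split (N - m) V Q hQ (by omega)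
    have hP' : ¬ PlusT Q' := fun h => hP ((plus_hypk_iff (N - m) e he (n := m) (by omega)).2 h)
    obtain ⟨D, U, hdec, h1, h2, h3, h4⟩ := int_dec (QD := Q') (QU := qH F (N - m)) (LinearEquiv.prodComm F _ _ ≪≫ₗ e)
      (fun v x => by
        change Q (e (x, v)) = _
        rw [he, qH_apply, add_comm])
    refine ⟨D, U, hdec, by omega, fun h => hP' (h3.1 h), ?_⟩
    rw [h4]
    exact iff_of_true (plusT_qH _) hP

/-! ### `nQ` -/

theorem nQ_le : nQ Q ≤ O Q := by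
  unfold nQ
  split_ifs
  · exact E_le_O
  · exact inf_le_left

theorem conj_mem_nQ {g x : V ≃ₗ[F] V} (hg : g ∈ O Q) (hx : x ∈ nQ Q) : g * x * g⁻¹ ∈ nQ Q := by
  unfold nQ at hx ⊢
  split_ifs at hx ⊢
  · exact conj_mem_E hg hx
  · refine ⟨(O Q).mul_mem ((O Q).mul_mem hg hx.1) ((O Q).inv_mem hg), ?_⟩
    change LinearMap.det ((g * x * g⁻¹ : V ≃ₗ[F] V) : V →ₗ[F] V) = 1
    rw [Cfsg.Agent.H557.Bs.det_conj']
    exact hx.2

section glue

variable {D U : Submodule F V}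

theorem glue_siegel (h : (frmQ Q).Dec D U) {u w : D} (hu : (Q.comp D.subtype) u = 0)
    (hw : polar (Q.comp D.subtype) u w = 0) (hu' : Q (u : V) = 0) (hw' : polar Q (u : V) (w : V) = 0) :
    glue h.compl (siegel (Q.comp D.subtype) u w hu hw) 1 = siegel Q (u : V) (w : V) hu' hw' := by
  ext v
  obtain ⟨d, x, rfl⟩ := Cfsg.Agent.H440.Bs.exists_add' h.compl v
  rw [Cfsg.Agent.H440.Bs.glue_add, siegel_apply, siegel_apply, polar_add_right, polar_add_right,
    show polar Q (u : V) x = 0 from h.orth u u.2 x x.2, show polar Q (w : V) x = 0 from h.orth w w.2 x x.2, add_zero,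
    add_zero]
  change ((d + polar Q (u : V) d • w - polar Q (w : V) d • u - (Q (w : V) * polar Q (u : V) d) • u : D) : V) + x = _
  push_cast
  abel

theorem glue_mem_E_left (h : (frmQ Q).Dec D U) {x : D ≃ₗ[F] D} (hx : x ∈ E (Q.comp D.subtype)) :
    glue h.compl x 1 ∈ E Q := by
  have h1 : (E (Q.comp D.subtype)).map ((Cfsg.Agent.H440.Bs.glueHom h.compl).comp (MonoidHom.inl _ _)) ≤ E Q := by
    rw [E, MonoidHom.map_closure, Subgroup.closure_le]
    rintro _ ⟨_, ⟨u, w, hu, hw, rfl⟩, rfl⟩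
    change glue h.compl (siegel (Q.comp D.subtype) u w hu hw) 1 ∈ E Q
    rw [glue_siegel h hu hw hu hw]
    exact siegel_mem_E _ _
  exact h1 ⟨x, hx, rfl⟩

theorem glue_mem_E (h : (frmQ Q).Dec D U) {x : D ≃ₗ[F] D} (hx : x ∈ E (Q.comp D.subtype)) {y : U ≃ₗ[F] U}
    (hy : y ∈ E (Q.comp U.subtype)) : glue h.compl x y ∈ E Q := by
  have h1 : glue h.compl x y = glue h.compl x 1 * glue h.compl 1 y := by
    rw [← Cfsg.Agent.H440.Bs.glue_mul, mul_one, one_mul]
  rw [h1]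
  refine mul_mem (glue_mem_E_left h hx) ?_
  rw [← Cfsg.Agent.H440.Bs.glue_symm]
  exact glue_mem_E_left (Cfsg.Agent.H440.Bs.Dec.symm h) hy

theorem glue_mem_nQ [FiniteDimensional F V] (h : (frmQ Q).Dec D U) {x : D ≃ₗ[F] D} (hx : x ∈ nQ (Q.comp D.subtype))
    {y : U ≃ₗ[F] U} (hy : y ∈ nQ (Q.comp U.subtype)) : glue h.compl x y ∈ nQ Q := by
  unfold nQ at hx hy ⊢
  split_ifs at hx hy ⊢
  · exact glue_mem_E h hx hy
  · refine ⟨mem_Iso.1 ((Cfsg.Agent.H440.Bs.glue_mem_iso h).2 ⟨mem_Iso.2 hx.1, mem_Iso.2 hy.1⟩), ?_⟩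
    change LinearMap.det (glue h.compl x y : V →ₗ[F] V) = 1
    rw [Cfsg.Agent.H557.Bs.det_glue, show LinearMap.det (x : D →ₗ[F] D) = 1 from hx.2,
      show LinearMap.det (y : U →ₗ[F] U) = 1 from hy.2, one_mul]

end glue

end

end Cfsg.Agent.H59.Bs
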