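import Cfsg.Agent.H765.Bs.Split

/-!
# S5733, BS12: the two types of quadratic forms (helper59)

* `plus_hyp_iff` : `V = H ⟂ V'` is of type plus if and only if `V'` is;
* `plus_hypk_iff` : the same for `k` hyperbolic planes;
* `exists_iso_of_plus` : spaces of type plus are sums of hyperbolic planes;
* `plus_iff_of_plus` : `V = D ⟂ U`, `U` of type plus: `V` and `D` have the same type;
* `exists_aniso_plane` : nondegenerate spaces of dimension at least four contain anisotropic nondegenerate planes.
-/

set_option autoImplicit false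
set_option linter.unusedSectionVars false

namespace Cfsg.Agent.H59.Bs

open QuadraticMap Cfsg.Agent.LieClassical.OrthCore Cfsg.Agent.LieClassical.OrthTrans
  Cfsg.Agent.LieClassical.OrthFinite Cfsg.Agent.H847.Bs Module Cfsg.Agent.H765.Bs

section

variable {F V V' : Type*} [Field F] [AddCommGroup V] [Module F V] [AddCommGroup V'] [Module F V']
  {Q : QuadraticForm F V} {Q' : QuadraticForm F V'}

/-- `TI` for quadratic forms -/
theorem ti_iff {A : Submodule F V} : (frmQ Q).TI A ↔ ∀ x ∈ A, Q x = 0 := by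
  refine ⟨fun h => h.2, fun h => ⟨fun x hx y hy => ?_, h⟩⟩
  change polar Q x y = 0
  rw [QuadraticMap.polar, h _ (A.add_mem hx hy), h x hx, h y hy]
  ring

theorem plusT_iff : PlusT Q ↔ ∃ A : Submodule F V, (∀ x ∈ A, Q x = 0) ∧ 2 * finrank F A = finrank F V := by
  unfold PlusT
  simp_rw [ti_iff]

theorem exists_le_finrank [FiniteDimensional F V] (A : Submodule F V) {n : ℕ} (h : n ≤ finrank F A) :
    ∃ B ≤ A, finrank F B = n := by
  obtain ⟨s, hs, hli⟩ := exists_finset_linearIndependent_of_le_finrank h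
  refine ⟨(Submodule.span F (s : Set A)).map A.subtype, Submodule.map_subtype_le _ _, ?_⟩
  rw [Submodule.finrank_map_subtype_eq, finrank_span_finset_eq_card hli, hs]

/-- a totally singular subspace of dimension at least one half is enough -/
theorem plusT_of_le [FiniteDimensional F V] {A : Submodule F V} (h : ∀ x ∈ A, Q x = 0) {n : ℕ}
    (hn : finrank F V = 2 * n) (hA : n ≤ finrank F A) : PlusT Q := by
  rw [plusT_iff]
  obtain ⟨b, hb, hb'⟩ := exists_le_finrank A hA
  exact ⟨b, fun x hx => h x (hb hx), by omega⟩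

theorem plusT_equiv (e : V ≃ₗ[F] V') (he : ∀ v, Q' (e v) = Q v) : PlusT Q' ↔ PlusT Q := by
  rw [plusT_iff, plusT_iff]
  constructor
  · rintro ⟨A, hA, hd⟩
    refine ⟨A.comap (e : V →ₗ[F] V'), fun x hx => ?_, ?_⟩
    · rw [← he]; exact hA _ hx
    · rw [e.finrank_eq, ← hd, Submodule.comap_equiv_eq_map_symm, LinearEquiv.finrank_map_eq]
  · rintro ⟨A, hA, hd⟩
    refine ⟨A.map (e : V →ₗ[F] V'), ?_, ?_⟩
    · rintro _ ⟨x, hx, rfl⟩
      exact (he x).trans (hA x hx)
    · rw [LinearEquiv.finrank_map_eq, hd, e.finrank_eq]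

/-- a hyperbolic plane does not change the type -/
theorem plus_hyp_iff [FiniteDimensional F V] [FiniteDimensional F V'] (e : ((F × F) × V') ≃ₗ[F] V)
    (he : ∀ s t v, Q (e ((s, t), v)) = s * t + Q' v) {n : ℕ} (hn : finrank F V' = 2 * n) : PlusT Q ↔ PlusT Q' := by
  have hd : finrank F V = 2 + finrank F V' := by
    rw [← e.finrank_eq, finrank_prod, finrank_prod, finrank_self]
  constructor
  · intro h
    rw [plusT_iff] at h
    obtain ⟨A, hA, hAd⟩ := h
    set τ : V →ₗ[F] F := LinearMap.snd F F F ∘ₗ LinearMap.fst F (F × F) V' ∘ₗ (e.symm : V →ₗ[F] ((F × F) × V')) with hτ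
    set ν : V →ₗ[F] V' := LinearMap.snd F (F × F) V' ∘ₗ (e.symm : V →ₗ[F] ((F × F) × V')) with hν
    have hτe : ∀ s t v, τ (e ((s, t), v)) = t := fun s t v => by simp [hτ]
    have hνe : ∀ s t v, ν (e ((s, t), v)) = v := fun s t v => by simp [hν]
    set x : V := e ((1, 0), 0) with hx
    have hxs : ∀ s, e ((s, 0), 0) = s • x := fun s => by rw [hx, ← map_smul]; simp
    have hpol : ∀ s t v, polar Q x (e ((s, t), v)) = t := by
      intro s t v
      rw [hx, QuadraticMap.polar, ← map_add, he]
      simp only [Prod.mk_add_mk, zero_add]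
      rw [he, he, map_zero]
      ring
    set K := A ⊓ LinearMap.ker τ with hK
    have hrn := LinearMap.finrank_range_add_finrank_ker (ν.domRestrict K)
    have hr : LinearMap.range (ν.domRestrict K) = K.map ν := LinearMap.range_domRestrict _ _
    rw [hr] at hrn
    have hsing : ∀ v ∈ K.map ν, Q' v = 0 := by
      rintro _ ⟨w, ⟨hw, hw'⟩, rfl⟩
      obtain ⟨⟨⟨s, t⟩, v⟩, rfl⟩ := e.surjective w
      have h1 : t = 0 := by rw [← hτe s t v]; exact hw'
      have h2 := hA _ hw
      rw [he, h1, mul_zero, zero_add] at h2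
      rw [hνe]; exact h2
    have hker : ∀ w : LinearMap.ker (ν.domRestrict K), ∃ s : F, s • x = ((w : K) : V) := by
      rintro ⟨⟨w, hw, hw'⟩, hw''⟩
      obtain ⟨⟨⟨s, t⟩, v⟩, rfl⟩ := e.surjective w
      have h1 : t = 0 := by rw [← hτe s t v]; exact hw'
      have h2 : v = 0 := by rw [← hνe s t v]; exact hw''
      refine ⟨s, ?_⟩
      subst h1 h2
      exact (hxs s).symm
    refine plusT_of_le hsing hn ?_
    by_cases hxA : x ∈ A
    · have hKA : K = A := by
        refine inf_eq_left.2 fun a ha => ?_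
        obtain ⟨⟨⟨s, t⟩, v⟩, rfl⟩ := e.surjective a
        rw [LinearMap.mem_ker, hτe, ← hpol s t v, QuadraticMap.polar, hA _ (A.add_mem hxA ha), hA _ hxA, hA _ ha]
        ring
      have hxK : x ∈ K := hKA ▸ hxA
      have h1 : finrank F (LinearMap.ker (ν.domRestrict K)) ≤ 1 := by
        refine finrank_le_one ⟨⟨x, hxK⟩, ?_⟩ fun w => ?_
        · show ν x = 0
          rw [hx, hνe]
        · obtain ⟨s, hs⟩ := hker w
          exact ⟨s, Subtype.ext (Subtype.ext hs)⟩
      rw [hKA] at hrn h1 ⊢
      omega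
    · have h1 : LinearMap.ker (ν.domRestrict K) = ⊥ := by
        rw [eq_bot_iff]
        intro w hw
        obtain ⟨s, hs⟩ := hker ⟨w, hw⟩
        rw [Submodule.mem_bot]
        apply Subtype.ext
        have h2 : s • x ∈ A := hs ▸ w.2.1
        have h3 : s = 0 := by
          by_contra hs0
          exact hxA ((A.smul_mem_iff hs0).1 h2)
        have h4 : (w : V) = s • x := hs.symm
        rw [h4, h3, zero_smul]
        rfl
      rw [h1, finrank_bot, add_zero] at hrn
      have h2 := Submodule.finrank_sup_add_finrank_inf_eq A (LinearMap.ker τ)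
      have h3 := Submodule.finrank_le (A ⊔ LinearMap.ker τ)
      have h4 := LinearMap.finrank_range_add_finrank_ker τ
      have h5 : finrank F (LinearMap.range τ) ≤ 1 := by
        have := Submodule.finrank_le (LinearMap.range τ)
        rwa [finrank_self] at this
      rw [← hK] at h2
      omega
  · intro h
    rw [plusT_iff] at h
    obtain ⟨A, hA, hAd⟩ := h
    let i : (F × A) →ₗ[F] V := (e : ((F × F) × V') →ₗ[F] V) ∘ₗ (LinearMap.inl F F F).prodMap A.subtype
    have hi : ∀ s a, i (s, a) = e ((s, 0), (a : V')) := fun s a => rfl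
    have hinj : Function.Injective i := by
      rintro ⟨s, a⟩ ⟨s', a'⟩ h1
      rw [hi, hi] at h1
      have h2 := e.injective h1
      simp only [Prod.mk.injEq] at h2
      exact Prod.ext h2.1.1 (Subtype.ext h2.2)
    rw [plusT_iff]
    refine ⟨LinearMap.range i, ?_, ?_⟩
    · rintro _ ⟨⟨s, a⟩, rfl⟩
      rw [hi, he, mul_zero, zero_add]
      exact hA _ a.2
    · rw [LinearMap.finrank_range_of_inj hinj, finrank_prod, finrank_self]
      omega

end

section

variable {F : Type} [Field F]

theorem plus_hypk_iff (k : ℕ) : ∀ {V V' : Type} [AddCommGroup V] [Module F V] [AddCommGroup V'] [Module F V']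
    [FiniteDimensional F V] [FiniteDimensional F V'] {Q : QuadraticForm F V} {Q' : QuadraticForm F V'}
    (e : ((Fin k → F × F) × V') ≃ₗ[F] V) (_ : ∀ x v, Q (e (x, v)) = (∑ i, (x i).1 * (x i).2) + Q' v) {n : ℕ}
    (_ : finrank F V' = 2 * n), PlusT Q ↔ PlusT Q' := by
  induction k with
  | zero =>
    intro V V' _ _ _ _ _ _ Q Q' e he n hn
    refine plusT_equiv ((LinearEquiv.uniqueProd (R := F) (M := V') (M₂ := Fin 0 → F × F)).symm ≪≫ₗ e) fun v => ?_
    have h1 := he default v
    rw [Finset.univ_eq_empty, Finset.sum_empty, zero_add] at h1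
    exact h1
  | succ k ih =>
    intro V V' _ _ _ _ _ _ Q Q' e he n hn
    let Q'' : QuadraticForm F ((Fin k → F × F) × V') :=
      (qH F k).comp (LinearMap.fst F (Fin k → F × F) V') + Q'.comp (LinearMap.snd F (Fin k → F × F) V')
    have hQ'' : ∀ x v, Q'' (x, v) = (∑ i, (x i).1 * (x i).2) + Q' v := by
      intro x v
      rw [← qH_apply]
      rfl
    let c : ((F × F) × ((Fin k → F × F) × V')) ≃ₗ[F] V :=
      (LinearEquiv.prodAssoc F (F × F) (Fin k → F × F) V').symm ≪≫ₗ
        ((Fin.consLinearEquiv F (fun _ : Fin (k + 1) => F × F)).prodCongr (LinearEquiv.refl F V')) ≪≫ₗ e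
    have hc : ∀ s t v, Q (c ((s, t), v)) = s * t + Q'' v := by
      rintro s t ⟨x, v⟩
      have h1 : c ((s, t), (x, v)) = e (Fin.cons (s, t) x, v) := rfl
      rw [h1, he, hQ'', Fin.sum_univ_succ, add_assoc]
      simp
    rw [plus_hyp_iff c hc (n := k + n) (by rw [finrank_prod, finrank_H]; omega)]
    exact ih (LinearEquiv.refl F _) (fun x v => hQ'' x v) hn

/-- spaces of type plus are sums of hyperbolic planes -/
theorem exists_iso_of_plus (k : ℕ) : ∀ {V : Type} [AddCommGroup V] [Module F V] [FiniteDimensional F V]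
    {Q : QuadraticForm F V} (_ : Nondeg Q) (_ : PlusT Q) (_ : finrank F V = 2 * k),
    ∃ e : (Fin k → F × F) ≃ₗ[F] V, ∀ x, Q (e x) = ∑ i, (x i).1 * (x i).2 := by
  induction k with
  | zero =>
    intro V _ _ _ Q hQ hP hd
    have h1 : Subsingleton V := Module.finrank_zero_iff.1 (by omega)
    refine ⟨LinearEquiv.ofFinrankEq _ _ (by rw [hd, finrank_H]), fun x => ?_⟩
    rw [Subsingleton.elim (LinearEquiv.ofFinrankEq _ _ _ x) (0 : V), map_zero]
    simp
  | succ k ih =>
    intro V _ _ _ Q hQ hP hd
    obtain ⟨A, hA, hAd⟩ := plusT_iff.1 hP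
    have hA0 : A ≠ ⊥ := by
      rintro rfl
      rw [finrank_bot] at hAd
      omega
    obtain ⟨x, hx, hx0⟩ := Submodule.exists_mem_ne_zero_of_ne_bot hA0
    obtain ⟨y, h⟩ := exists_hyp hQ (hA x hx) hx0
    have h1 : finrank F ((F × F) × hperp Q x y) = finrank F V := (hypE h).finrank_eq
    rw [finrank_prod, finrank_prod, finrank_self] at h1
    have h2 : finrank F (hperp Q x y) = 2 * k := by omega
    have h3 : PlusT (Q.comp (hperp Q x y).subtype) := (plus_hyp_iff (hypE h) (fun s t v => hypE_Q h s t v) h2).1 hP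
    obtain ⟨e, he⟩ := ih (nondeg_hperp hQ h) h3 h2
    refine ⟨(Fin.consLinearEquiv F (fun _ : Fin (k + 1) => F × F)).symm ≪≫ₗ
      ((LinearEquiv.refl F (F × F)).prodCongr e) ≪≫ₗ hypE h, fun x' => ?_⟩
    have e1 : ∀ (a : F × F) (b : Fin k → F × F), Q (hypE h (a, e b)) = a.1 * a.2 + ∑ i, (b i).1 * (b i).2 := by
      rintro ⟨s, t⟩ b
      rw [hypE_Q, ← he]
      rfl
    have e2 := e1 (x' 0) (fun i => x' i.succ)
    rw [Fin.sum_univ_succ]
    exact e2

/-- `V = D ⟂ U`, `U` of type plus -/
theorem plus_iff_of_plus {V D U : Type} [AddCommGroup V] [Module F V] [FiniteDimensional F V] [AddCommGroup D]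
    [Module F D] [FiniteDimensional F D] [AddCommGroup U] [Module F U] [FiniteDimensional F U]
    {Q : QuadraticForm F V} {QD : QuadraticForm F D} {QU : QuadraticForm F U} (e : (D × U) ≃ₗ[F] V)
    (he : ∀ d u, Q (e (d, u)) = QD d + QU u) (hU : Nondeg QU) (hp : PlusT QU) {a b : ℕ} (ha : finrank F D = 2 * a)
    (hb : finrank F U = 2 * b) : PlusT Q ↔ PlusT QD := by
  obtain ⟨i, hi⟩ := exists_iso_of_plus b hU hp hb
  refine plus_hypk_iff b (LinearEquiv.prodComm F _ _ ≪≫ₗ ((LinearEquiv.refl F D).prodCongr i) ≪≫ₗ e) ?_ ha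
  intro x v
  have h1 : (LinearEquiv.prodComm F _ _ ≪≫ₗ ((LinearEquiv.refl F D).prodCongr i) ≪≫ₗ e) (x, v) = e (v, i x) := rfl
  rw [h1, he, hi, add_comm]

/-- an anisotropic binary form with given last coefficient -/
theorem exists_irr [Finite F] {b : F} (hb : b ≠ 0) : ∃ a : F, ∀ t : F, t * t + a * t + b ≠ 0 := by
  classical
  by_contra hcon
  push Not at hcon
  have : Fintype F := Fintype.ofFinite F
  choose t ht using hcon
  have ht0 : ∀ a, t a ≠ 0 := by
    intro a h
    have := ht a
    rw [h] at this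
    apply hb
    linear_combination this
  have hinj : Function.Injective t := by
    intro a a' h
    have h1 := ht a
    have h2 := ht a'
    rw [← h] at h2
    have h3 : (a - a') * t a = 0 := by linear_combination h1 - h2
    exact sub_eq_zero.1 ((mul_eq_zero.1 h3).resolve_right (ht0 a))
  obtain ⟨a, ha⟩ := (Finite.injective_iff_surjective.1 hinj) 0
  exact ht0 a ha

theorem disc_ne [Finite F] {a b : F} (h : ∀ t : F, t * t + a * t + b ≠ 0) : 4 * b - a * a ≠ 0 := by
  intro h1
  by_cases h2 : (2 : F) = 0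
  · have h4 : (4 : F) = 0 := by linear_combination 2 * h2
    have ha : a = 0 := by
      rw [h4, zero_mul, zero_sub, neg_eq_zero] at h1
      exact mul_self_eq_zero.1 h1
    have hc : ringChar F = 2 := by
      have h3 : ringChar F ∣ 2 := (ringChar.spec F 2).1 (by exact_mod_cast h2)
      rcases (Nat.dvd_prime Nat.prime_two).1 h3 with h5 | h5
      · exact absurd h5 (CharP.ringChar_ne_one)
      · exact h5
    have : Fintype F := Fintype.ofFinite F
    obtain ⟨c, hcb⟩ := FiniteField.isSquare_of_char_two hc b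
    apply h c
    rw [ha, ← hcb]
    linear_combination b * h2
  · apply h (-(a / 2))
    field_simp
    linear_combination h1

/-- nondegenerate spaces of dimension at least four contain anisotropic planes -/
theorem exists_aniso_plane [Finite F] {V : Type} [AddCommGroup V] [Module F V] [FiniteDimensional F V]
    {Q : QuadraticForm F V} (hQ : Nondeg Q) (hd : 4 ≤ finrank F V) :
    ∃ P : Submodule F V, finrank F P = 2 ∧ (frmQ Q).NdOn P ∧ ¬ PlusT (Q.comp P.subtype) := by
  obtain ⟨x, -, hx0, hx⟩ := exists_sing_mem (Q := Q) (⊤ : Submodule F V) (by rw [finrank_top]; omega)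
  obtain ⟨y, h⟩ := exists_hyp hQ hx hx0
  have h1 : finrank F ((F × F) × hperp Q x y) = finrank F V := (hypE h).finrank_eq
  rw [finrank_prod, finrank_prod, finrank_self] at h1
  obtain ⟨⟨w, hw1, hw2⟩, hw⟩ : ∃ w : hperp Q x y, Q w ≠ 0 := by
    by_contra hcon
    push Not at hcon
    have h2 : Nontrivial (hperp Q x y) := Module.finrank_pos_iff.1 (show 0 < finrank F (hperp Q x y) by omega)
    obtain ⟨v, hv⟩ := exists_ne (0 : hperp Q x y)
    apply hv
    apply nondeg_hperp hQ h
    intro z
    rw [QuadraticMap.polar, QuadraticMap.comp_apply, QuadraticMap.comp_apply, QuadraticMap.comp_apply]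
    simp only [Submodule.subtype_apply]
    rw [hcon, hcon, hcon]
    ring
  obtain ⟨a, ha⟩ := exists_irr hw
  have hform : ∀ s t : F, Q (s • (x + y) + t • (a • y + w)) = s * s + a * (s * t) + Q w * (t * t) := by
    intro s t
    have e1 : s • (x + y) + t • (a • y + w) = s • x + (s + t * a) • y + t • w := by module
    have e2 : polar Q (s • x + (s + t * a) • y) (t • w) = 0 := by
      rw [polar_add_left, polar_smul_left, polar_smul_left, polar_smul_right, polar_smul_right, hw1, hw2]
      simp
    rw [e1, Q_add, e2, Q_add, QuadraticMap.map_smul, QuadraticMap.map_smul, QuadraticMap.map_smul, h.left, h.right,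
      polar_smul_left, polar_smul_right, h.pair]
    simp only [smul_eq_mul]
    ring
  have han : ∀ s t : F, Q (s • (x + y) + t • (a • y + w)) = 0 → s = 0 ∧ t = 0 := by
    intro s t hst
    rw [hform] at hst
    have ht : t = 0 := by
      by_contra ht
      apply ha (s / t)
      field_simp
      linear_combination hst
    refine ⟨?_, ht⟩
    rw [ht] at hst
    have : s * s = 0 := by linear_combination hst
    exact mul_self_eq_zero.1 this
  have hmem : ∀ z ∈ Submodule.span F ({x + y, a • y + w} : Set V), ∃ s t : F, z = s • (x + y) + t • (a • y + w) := by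
    intro z hz
    obtain ⟨s, t, h2⟩ := Submodule.mem_span_pair.1 hz
    exact ⟨s, t, h2.symm⟩
  have hpolar : ∀ s t s' t' : F, polar Q (s • (x + y) + t • (a • y + w)) (s' • (x + y) + t' • (a • y + w)) =
      2 * s * s' + a * (s * t' + s' * t) + 2 * Q w * (t * t') := by
    intro s t s' t'
    have e1 : s • (x + y) + t • (a • y + w) + (s' • (x + y) + t' • (a • y + w)) =
      (s + s') • (x + y) + (t + t') • (a • y + w) := by module
    rw [QuadraticMap.polar, e1, hform, hform, hform]
    ring
  have hfin : finrank F (Submodule.span F ({x + y, a • y + w} : Set V)) = 2 := by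
    have hli : LinearIndependent F ![x + y, a • y + w] := by
      rw [LinearIndependent.pair_iff]
      intro s t hst
      apply han
      rw [hst, QuadraticMap.map_zero]
    have hrange : ({x + y, a • y + w} : Set V) = Set.range ![x + y, a • y + w] := by
      rw [Matrix.range_cons, Matrix.range_cons, Matrix.range_empty, Set.union_empty]
      rfl
    rw [hrange, finrank_span_eq_card hli, Fintype.card_fin]
  refine ⟨Submodule.span F {x + y, a • y + w}, hfin, ?_, ?_⟩
  · intro z hz hz'
    obtain ⟨s, t, rfl⟩ := hmem z hz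
    have h2 := hz' (x + y) (Submodule.subset_span (by simp))
    have h3 := hz' (a • y + w) (Submodule.subset_span (by simp))
    change polar Q _ _ = 0 at h2
    change polar Q _ _ = 0 at h3
    have h4 := hpolar s t 1 0
    have h5 := hpolar s t 0 1
    rw [one_smul, zero_smul, add_zero, h2] at h4
    rw [one_smul, zero_smul, zero_add, h3] at h5
    have hdisc := disc_ne ha
    have h6 : (4 * Q w - a * a) * t = 0 := by linear_combination a * h4 - 2 * h5
    have h7 : (4 * Q w - a * a) * s = 0 := by linear_combination a * h5 - 2 * Q w * h4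
    rw [(mul_eq_zero.1 h6).resolve_left hdisc, (mul_eq_zero.1 h7).resolve_left hdisc]
    simp
  · intro hP
    obtain ⟨A, hA, hAd⟩ := plusT_iff.1 hP
    have hA0 : A ≠ ⊥ := by
      rintro rfl
      rw [finrank_bot, hfin] at hAd
      omega
    obtain ⟨z, hz, hz0⟩ := Submodule.exists_mem_ne_zero_of_ne_bot hA0
    obtain ⟨s, t, h2⟩ := hmem z z.2
    have h3 := hA z hz
    rw [QuadraticMap.comp_apply, Submodule.subtype_apply, h2] at h3
    obtain ⟨rfl, rfl⟩ := han s t h3
    apply hz0
    apply Subtype.ext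
    rw [h2]
    simp

/-- from external to internal decompositions -/
theorem int_dec {V D' U' : Type} [AddCommGroup V] [Module F V] [AddCommGroup D']
    [Module F D'] [AddCommGroup U'] [Module F U']
    {Q : QuadraticForm F V} {QD : QuadraticForm F D'} {QU : QuadraticForm F U'} (e : (D' × U') ≃ₗ[F] V)
    (he : ∀ d u, Q (e (d, u)) = QD d + QU u) :
    ∃ D U : Submodule F V, (frmQ Q).Dec D U ∧ finrank F D = finrank F D' ∧ finrank F U = finrank F U' ∧
      (PlusT (Q.comp D.subtype) ↔ PlusT QD) ∧ (PlusT (Q.comp U.subtype) ↔ PlusT QU) := by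
  let i : D' →ₗ[F] V := (e : (D' × U') →ₗ[F] V) ∘ₗ LinearMap.inl F D' U'
  let j : U' →ₗ[F] V := (e : (D' × U') →ₗ[F] V) ∘ₗ LinearMap.inr F D' U'
  have hi : ∀ d, i d = e (d, 0) := fun d => rfl
  have hj : ∀ u, j u = e (0, u) := fun u => rfl
  have hi' : Function.Injective i := e.injective.comp LinearMap.inl_injective
  have hj' : Function.Injective j := e.injective.comp LinearMap.inr_injective
  refine ⟨LinearMap.range i, LinearMap.range j, ⟨⟨?_, ?_⟩, ?_⟩, LinearMap.finrank_range_of_inj hi',
    LinearMap.finrank_range_of_inj hj', ?_, ?_⟩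
  · rw [Submodule.disjoint_def]
    rintro _ ⟨d, rfl⟩ ⟨u, hu⟩
    rw [hi, hj] at hu
    have h1 := e.injective hu
    simp only [Prod.mk.injEq] at h1
    rw [hi, ← h1.1]
    exact map_zero e
  · rw [codisjoint_iff, eq_top_iff]
    intro v _
    obtain ⟨⟨d, u⟩, rfl⟩ := e.surjective v
    have h1 : e (d, u) = i d + j u := by rw [hi, hj, ← map_add]; simp
    rw [h1]
    exact Submodule.add_mem_sup ⟨d, rfl⟩ ⟨u, rfl⟩
  · rintro _ ⟨d, rfl⟩ _ ⟨u, rfl⟩
    change polar Q _ _ = 0
    have h1 : i d + j u = e (d, u) := by rw [hi, hj, ← map_add]; simp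
    rw [QuadraticMap.polar, h1, hi, hj, he, he, he, QuadraticMap.map_zero, QuadraticMap.map_zero]
    ring
  · refine plusT_equiv (LinearEquiv.ofInjective i hi') fun v => ?_
    change Q (i v) = QD v
    rw [hi, he, map_zero, add_zero]
  · refine plusT_equiv (LinearEquiv.ofInjective j hj') fun v => ?_
    change Q (j v) = QU v
    rw [hj, he, map_zero, zero_add]

end

end Cfsg.Agent.H59.Bs
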