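import Cfsg.Agent.H847.Bs.Defs2

/-!
# S5733, BS07: counting conjugates by pairs, transport along isometries (helper59)
-/

set_option autoImplicit false

namespace Cfsg.Agent.H59.Bs

open Cfsg.Agent.H847.Bs

/-- **counting conjugates** -/
theorem card_pairs {𝒢 : Type*} [Group 𝒢] [Finite 𝒢] (G : Subgroup 𝒢) (E B : Set 𝒢) (M : ℕ)
    (hM : ∀ x ∈ E, Nat.card {h : 𝒢 // h ∈ G ∧ h * x * h⁻¹ ∈ E} ≤ M)
    (hB : ∀ g ∈ G, ∀ x ∈ E, g * x * g⁻¹ ∈ B) : Nat.card G * Nat.card E ≤ Nat.card B * M := by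
  classical
  have := Fintype.ofFinite 𝒢
  let f : G × E → B := fun z => ⟨z.1.1 * z.2.1 * z.1.1⁻¹, hB _ z.1.2 _ z.2.2⟩
  rw [← Nat.card_prod]
  have h1 : Nat.card (G × E) = ∑ b : B, Nat.card {z : G × E // f z = b} := by
    rw [← Nat.card_sigma]
    exact Nat.card_congr (Equiv.sigmaFiberEquiv f).symm
  rw [h1, Nat.card_eq_fintype_card (α := B), ← smul_eq_mul, ← Finset.card_univ]
  refine Finset.sum_le_card_nsmul _ _ _ fun b _ => ?_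
  by_cases hne : Nonempty {z : G × E // f z = b}
  · obtain ⟨⟨⟨g0, x0⟩, h0⟩⟩ := hne
    refine le_trans ?_ (hM x0.1 x0.2)
    have hb : b.1 = g0.1 * x0.1 * g0.1⁻¹ := by rw [← h0]
    refine Nat.card_le_card_of_injective (fun z => ⟨z.1.1.1⁻¹ * g0.1, G.mul_mem (G.inv_mem z.1.1.2) g0.2, ?_⟩) ?_
    · have h2 : b.1 = z.1.1.1 * z.1.2.1 * z.1.1.1⁻¹ := (congrArg Subtype.val z.2).symm
      have h3 : z.1.1.1⁻¹ * g0.1 * x0.1 * (z.1.1.1⁻¹ * g0.1)⁻¹ = z.1.2.1 := by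
        have h4 : g0.1 * x0.1 * g0.1⁻¹ = z.1.1.1 * z.1.2.1 * z.1.1.1⁻¹ := by rw [← hb, ← h2]
        calc z.1.1.1⁻¹ * g0.1 * x0.1 * (z.1.1.1⁻¹ * g0.1)⁻¹ = z.1.1.1⁻¹ * (g0.1 * x0.1 * g0.1⁻¹) * z.1.1.1 := by group
          _ = z.1.2.1 := by rw [h4]; group
      rw [h3]
      exact z.1.2.2
    · intro z z' hzz
      have h5 : z.1.1.1⁻¹ * g0.1 = z'.1.1.1⁻¹ * g0.1 := congrArg Subtype.val hzz
      have h6 : z.1.1.1 = z'.1.1.1 := inv_injective (mul_right_cancel h5)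
      have h2 : b.1 = z.1.1.1 * z.1.2.1 * z.1.1.1⁻¹ := (congrArg Subtype.val z.2).symm
      have h2' : b.1 = z'.1.1.1 * z'.1.2.1 * z'.1.1.1⁻¹ := (congrArg Subtype.val z'.2).symm
      rw [h6, h2'] at h2
      have h7 : z'.1.2.1 = z.1.2.1 := mul_left_cancel (mul_right_cancel h2)
      exact Subtype.ext (Prod.ext (Subtype.ext h6) (Subtype.ext h7.symm))
  · rw [not_nonempty_iff] at hne
    rw [Nat.card_of_isEmpty]
    exact Nat.zero_le _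

section Transport

variable {F V V' : Type*} [Field F] [AddCommGroup V] [Module F V] [AddCommGroup V'] [Module F V']

/-- conjugation with a linear isomorphism -/
def cj (e : V ≃ₗ[F] V') (x : V ≃ₗ[F] V) : V' ≃ₗ[F] V' := e.symm ≪≫ₗ x ≪≫ₗ e

theorem cj_apply (e : V ≃ₗ[F] V') (x : V ≃ₗ[F] V) (v : V) : cj e x (e v) = e (x v) := by
  simp [cj]

theorem cj_injective (e : V ≃ₗ[F] V') : Function.Injective (cj e) := by
  intro x y h
  ext v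
  apply e.injective
  rw [← cj_apply, ← cj_apply, h]

theorem Inv_cj {e : V ≃ₗ[F] V'} {x : V ≃ₗ[F] V} {Y : Submodule F V} :
    Inv (cj e x) (Y.map (e : V →ₗ[F] V')) ↔ Inv x Y := by
  constructor
  · intro h v hv
    obtain ⟨w, hw, hw'⟩ := h (e v) ⟨v, hv, rfl⟩
    rw [cj_apply] at hw'
    have : w = x v := e.injective hw'
    rwa [← this]
  · rintro h _ ⟨v, hv, rfl⟩
    exact ⟨x v, h v hv, (cj_apply e x v).symm⟩

theorem Irr_cj {e : V ≃ₗ[F] V'} {x : V ≃ₗ[F] V} {X : Submodule F V} (h : Irr x X) :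
    Irr (cj e x) (X.map (e : V →ₗ[F] V')) := by
  refine ⟨Inv_cj.2 h.inv, ?_, ?_⟩
  · rw [Ne, Submodule.map_eq_bot_iff]
    exact h.ne_bot
  · intro Y hY hi
    have hYe : (Y.comap (e : V →ₗ[F] V')).map (e : V →ₗ[F] V') = Y :=
      Submodule.map_comap_eq_of_surjective e.surjective Y
    rw [← hYe] at hi
    rcases h.min (Y.comap (e : V →ₗ[F] V')) (by
      intro v hv
      obtain ⟨w, hw, hw'⟩ := hY hv
      have : w = v := e.injective hw'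
      rwa [← this]) (Inv_cj.1 hi) with h1 | h1
    · left
      rw [← hYe, h1, Submodule.map_bot]
    · right
      rw [← hYe, h1]

variable {Φ : Frm F V} {Φ' : Frm F V'} {e : V ≃ₗ[F] V'}

theorem Iso_cj (hB : ∀ x y, Φ'.B (e x) (e y) = Φ.B x y) (hq : ∀ x, Φ'.q (e x) = Φ.q x) {x : V ≃ₗ[F] V}
    (hx : x ∈ Φ.Iso) : cj e x ∈ Φ'.Iso := by
  obtain ⟨h1, h2⟩ := hx
  refine ⟨fun u v => ?_, fun u => ?_⟩
  · obtain ⟨u, rfl⟩ := e.surjective u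
    obtain ⟨v, rfl⟩ := e.surjective v
    rw [cj_apply, cj_apply, hB, h1, hB]
  · obtain ⟨u, rfl⟩ := e.surjective u
    rw [cj_apply, hq, h2, hq]

theorem card_Iso_le [Finite V'] (hB : ∀ x y, Φ'.B (e x) (e y) = Φ.B x y) (hq : ∀ x, Φ'.q (e x) = Φ.q x) :
    Nat.card Φ.Iso ≤ Nat.card Φ'.Iso :=
  have : Finite (V' ≃ₗ[F] V') := Finite.of_injective _ DFunLike.coe_injective
  Nat.card_le_card_of_injective (fun x => ⟨cj e x.1, Iso_cj hB hq x.2⟩)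
    fun _ _ h => Subtype.ext (cj_injective e (congrArg Subtype.val h))

theorem Bm_cj (hB : ∀ x y, Φ'.B (e x) (e y) = Φ.B x y) (hq : ∀ x, Φ'.q (e x) = Φ.q x) {x : V ≃ₗ[F] V}
    (hx : x ∈ Φ.Bm) : cj e x ∈ Φ'.Bm := by
  refine ⟨Iso_cj hB hq hx.1, ?_⟩
  have h1 := Irr_cj (e := e) hx.2
  rwa [Submodule.map_top, LinearMap.range_eq_top.2 e.surjective] at h1

theorem TI_cj (hB : ∀ x y, Φ'.B (e x) (e y) = Φ.B x y) (hq : ∀ x, Φ'.q (e x) = Φ.q x) {A : Submodule F V}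
    (hA : Φ.TI A) : Φ'.TI (A.map (e : V →ₗ[F] V')) := by
  refine ⟨?_, ?_⟩
  · rintro _ ⟨x, hx, rfl⟩ _ ⟨y, hy, rfl⟩
    exact (hB x y).trans (hA.1 x hx y hy)
  · rintro _ ⟨x, hx, rfl⟩
    exact (hq x).trans (hA.2 x hx)

theorem Bp_cj (hB : ∀ x y, Φ'.B (e x) (e y) = Φ.B x y) (hq : ∀ x, Φ'.q (e x) = Φ.q x) {x : V ≃ₗ[F] V}
    (hx : x ∈ Φ.Bp) : cj e x ∈ Φ'.Bp := by
  obtain ⟨h0, A, A', hc, hA, hA', hi, hi', hr, hn⟩ := hx
  refine ⟨Iso_cj hB hq h0, A.map (e : V →ₗ[F] V'), A'.map (e : V →ₗ[F] V'), ?_, TI_cj hB hq hA, TI_cj hB hq hA', Irr_cj hi,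
    Irr_cj hi', ?_, ?_⟩
  · exact (Submodule.orderIsoMapComap e).isCompl_iff.1 hc
  · rw [LinearEquiv.finrank_map_eq, LinearEquiv.finrank_map_eq, hr]
  · rintro ⟨φ, hφ⟩
    apply hn
    let i : A ≃ₗ[F] A.map (e : V →ₗ[F] V') := e.submoduleMap A
    let i' : A' ≃ₗ[F] A'.map (e : V →ₗ[F] V') := e.submoduleMap A'
    refine ⟨i ≪≫ₗ φ ≪≫ₗ i'.symm, fun a ha => ?_⟩
    apply e.injective
    have h1 : ∀ b : A, e (((i ≪≫ₗ φ ≪≫ₗ i'.symm) b : A') : V) = ((φ (i b) : A'.map (e : V →ₗ[F] V')) : V') := by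
      intro b
      have h2 : i' ((i ≪≫ₗ φ ≪≫ₗ i'.symm) b) = φ (i b) := by
        simp
      have h3 : ((i' ((i ≪≫ₗ φ ≪≫ₗ i'.symm) b) : A'.map (e : V →ₗ[F] V')) : V') =
          e (((i ≪≫ₗ φ ≪≫ₗ i'.symm) b : A') : V) := rfl
      rw [← h3, h2]
    rw [h1]
    have h4 : cj e x ((i a : A.map (e : V →ₗ[F] V')) : V') ∈ A.map (e : V →ₗ[F] V') := by
      have h5 : ((i a : A.map (e : V →ₗ[F] V')) : V') = e a := rfl
      rw [h5, cj_apply]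
      exact ⟨_, ha, rfl⟩
    have h6 := hφ (i a) h4
    have h7 : (⟨cj e x ((i a : A.map (e : V →ₗ[F] V')) : V'), h4⟩ : A.map (e : V →ₗ[F] V')) = i ⟨x a, ha⟩ := by
      apply Subtype.ext
      have h5 : ((i a : A.map (e : V →ₗ[F] V')) : V') = e a := rfl
      show cj e x ((i a : A.map (e : V →ₗ[F] V')) : V') = e (x a)
      rw [h5, cj_apply]
    rw [h7] at h6
    rw [h6, ← h1, cj_apply]

end Transport

end Cfsg.Agent.H59.Bs
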