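import Cfsg.Agent.H59.Bs.Pairs

/-!
# S5733, BS07: elements of a torus `F_{q^{2j}}ˣ ∩ {t^(q^j+1) = 1}` (helper59)
-/

set_option autoImplicit false
set_option linter.unusedSectionVars false

namespace Cfsg.Agent.H59.Bs

open Cfsg.Agent.H847.Bs Module
open scoped IntermediateField

theorem card_le_mul {α β : Type*} [Finite α] [Finite β] (f : α → β) (m : ℕ)
    (h : ∀ b, Nat.card {a // f a = b} ≤ m) : Nat.card α ≤ Nat.card β * m := by
  classical
  have := Fintype.ofFinite β
  have h1 : Nat.card α = ∑ b : β, Nat.card {a // f a = b} := by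
    rw [← Nat.card_sigma]
    exact Nat.card_congr (Equiv.sigmaFiberEquiv f).symm
  rw [h1, Nat.card_eq_fintype_card (α := β), ← smul_eq_mul, ← Finset.card_univ]
  exact Finset.sum_le_card_nsmul _ _ _ fun b _ => h b

section Field

variable {F L : Type*} [Field F] [Field L] [Algebra F L] [Finite L]

/-- multiplication by a unit -/
noncomputable def mulE (F : Type*) {L : Type*} [Field F] [Field L] [Algebra F L] (t : Lˣ) : L ≃ₗ[F] L :=
  DistribMulAction.toLinearEquiv F L t

theorem mulE_apply (t : Lˣ) (x : L) : mulE F t x = t * x := rfl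

theorem mulE_injective : Function.Injective (mulE F (L := L)) := by
  intro t u h
  apply Units.ext
  have h1 := congrArg (fun g : L ≃ₗ[F] L => g 1) h
  simpa [mulE_apply] using h1

theorem pow_card_of_mem {t : L} {K : IntermediateField F L} (ht : t ∈ K) : t ^ Nat.card K = t := by
  have := Fintype.ofFinite K
  have h := FiniteField.pow_card (⟨t, ht⟩ : K)
  rw [← Nat.card_eq_fintype_card] at h
  exact congrArg Subtype.val h

theorem exists_aeval {t : L} (h : F⟮t⟯ = ⊤) (y : L) : ∃ p : Polynomial F, Polynomial.aeval t p = y := by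
  have hF : Finite F := Finite.of_injective _ (algebraMap F L).injective
  have hint : IsIntegral F t := Algebra.IsIntegral.isIntegral t
  have h1 : y ∈ Algebra.adjoin F {t} := by
    rw [← IntermediateField.adjoin_simple_toSubalgebra_of_isAlgebraic hint.isAlgebraic, h]
    exact IntermediateField.mem_top
  rw [Algebra.adjoin_singleton_eq_range_aeval] at h1
  obtain ⟨p, hp⟩ := h1
  exact ⟨p, hp⟩

theorem mulE_aeval (t : Lˣ) (p : Polynomial F) (x : L) :
    (Polynomial.aeval ((mulE F t : L ≃ₗ[F] L) : Module.End F L) p) x = Polynomial.aeval (t : L) p * x := by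
  have h : ((mulE F t : L ≃ₗ[F] L) : Module.End F L) = Algebra.lmul F L (t : L) := by
    ext; rfl
  rw [h, Polynomial.aeval_algHom_apply]
  rfl

/-- a generating element is irreducible -/
theorem irr_mulE {t : Lˣ} (h : F⟮(t : L)⟯ = ⊤) : Irr (mulE F t) ⊤ := by
  refine ⟨fun _ _ => Submodule.mem_top, ?_, ?_⟩
  · rw [Ne, Submodule.eq_bot_iff]
    push Not
    exact ⟨1, Submodule.mem_top, one_ne_zero⟩
  · intro Y _ hY
    by_cases h0 : Y = ⊥
    · exact Or.inl h0
    · right
      obtain ⟨y, hy, hy0⟩ := Submodule.exists_mem_ne_zero_of_ne_bot h0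
      rw [eq_top_iff]
      intro z _
      obtain ⟨p, hp⟩ := exists_aeval h (z * y⁻¹)
      have h1 : z = Polynomial.aeval (t : L) p * y := by
        rw [hp, inv_mul_cancel_right₀ hy0]
      rw [h1]
      clear h1 hp
      induction p using Polynomial.induction_on' with
      | add p r hp hr => rw [map_add, add_mul]; exact Y.add_mem hp hr
      | monomial n c =>
        rw [Polynomial.aeval_monomial, mul_assoc, ← Algebra.smul_def]
        apply Y.smul_mem
        induction n with
        | zero => simpa using hy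
        | succ n ih =>
          rw [pow_succ', mul_assoc]
          exact hY _ ih

/-- **the elements conjugating a generating torus element into the torus** -/
theorem card_conj_le (G : Subgroup (L ≃ₗ[F] L)) (T : Set Lˣ) (hT : ∀ c : Lˣ, mulE F c ∈ G → c ∈ T) {t : Lˣ}
    (ht : F⟮(t : L)⟯ = ⊤) (E : Set (L ≃ₗ[F] L)) (hE : ∀ x ∈ E, ∃ u : Lˣ, x = mulE F u) :
    Nat.card {h : L ≃ₗ[F] L // h ∈ G ∧ h * mulE F t * h⁻¹ ∈ E} ≤ finrank F L * Nat.card T := by
  classical
  have hF : Finite F := Finite.of_injective _ (algebraMap F L).injective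
  have hfd : FiniteDimensional F L := Module.Finite.of_finite
  have hfe : Finite (L ≃ₗ[F] L) := Finite.of_injective _ DFunLike.coe_injective
  set P := minpoly F (t : L) with hP
  have hP0 : P ≠ 0 := minpoly.ne_zero (Algebra.IsIntegral.isIntegral _)
  have key : ∀ z : {h : L ≃ₗ[F] L // h ∈ G ∧ h * mulE F t * h⁻¹ ∈ E},
      ∃ u : Lˣ, z.1 * mulE F t * z.1⁻¹ = mulE F u := fun z => hE _ z.2.2
  choose u hu using key
  have hcomm : ∀ z x, z.1 ((t : L) * x) = (u z : L) * z.1 x := by
    intro z x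
    have h1 : z.1 * mulE F t = mulE F (u z) * z.1 := by rw [← hu z]; group
    exact congrArg (fun g : L ≃ₗ[F] L => g x) h1
  have hpoly : ∀ z (p : Polynomial F) x, z.1 (Polynomial.aeval (t : L) p * x) =
      Polynomial.aeval (u z : L) p * z.1 x := by
    intro z p
    induction p using Polynomial.induction_on' with
    | add p r hp hr => intro x; rw [map_add, map_add, add_mul, map_add, hp, hr, add_mul]
    | monomial n c =>
      intro x
      rw [Polynomial.aeval_monomial, Polynomial.aeval_monomial, mul_assoc, mul_assoc, ← Algebra.smul_def,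
        ← Algebra.smul_def, map_smul]
      congr 1
      induction n generalizing x with
      | zero => simp
      | succ n ih => rw [pow_succ', mul_assoc, hcomm, ih, pow_succ', mul_assoc]
  have hroot : ∀ z, (u z : L) ∈ (P.map (algebraMap F L)).roots.toFinset := by
    intro z
    rw [Multiset.mem_toFinset, Polynomial.mem_roots (Polynomial.map_ne_zero hP0), Polynomial.IsRoot.def,
      Polynomial.eval_map_algebraMap]
    have h1 := hpoly z P 1
    rw [hP, minpoly.aeval, zero_mul, map_zero] at h1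
    rcases mul_eq_zero.1 h1.symm with h2 | h2
    · exact h2
    · exact absurd (z.1.map_eq_zero_iff.1 h2) one_ne_zero
  let f : {h : L ≃ₗ[F] L // h ∈ G ∧ h * mulE F t * h⁻¹ ∈ E} → (P.map (algebraMap F L)).roots.toFinset :=
    fun z => ⟨u z, hroot z⟩
  have h1 := card_le_mul f (Nat.card T) ?_
  · refine h1.trans (Nat.mul_le_mul_right _ ?_)
    rw [Nat.card_eq_fintype_card, Fintype.card_coe]
    refine (Multiset.toFinset_card_le _).trans ((Polynomial.card_roots' _).trans ?_)
    rw [Polynomial.natDegree_map]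
    exact minpoly.natDegree_le _
  · intro b
    by_cases hne : Nonempty {a // f a = b}
    · obtain ⟨z0⟩ := hne
      have hz1 : ∀ z : {a // f a = b}, z.1.1 1 ≠ 0 := fun z h0 =>
        one_ne_zero (z.1.1.map_eq_zero_iff.1 h0)
      have hc : ∀ z : {a // f a = b}, z.1.1 * z0.1.1⁻¹ = mulE F (Units.mk0 (z.1.1 1 / z0.1.1 1) (div_ne_zero (hz1 z) (hz1 z0))) := by
        intro z
        have hzz : (u z.1 : L) = u z0.1 := by
          have h2 : f z.1 = f z0.1 := z.2.trans z0.2.symm
          exact congrArg Subtype.val h2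
        rw [mul_inv_eq_iff_eq_mul]
        ext x
        obtain ⟨p, hp⟩ := exists_aeval ht x
        have h2 := hpoly z.1 p 1
        have h3 := hpoly z0.1 p 1
        rw [mul_one, hp] at h2 h3
        show z.1.1 x = (z.1.1 1 / z0.1.1 1) * z0.1.1 x
        rw [h2, h3, hzz]
        field_simp [hz1 z0]
      refine Nat.card_le_card_of_injective (fun z => (⟨Units.mk0 (z.1.1 1 / z0.1.1 1) (div_ne_zero (hz1 z) (hz1 z0)),
        hT _ ?_⟩ : T)) ?_
      · rw [← hc z]
        exact G.mul_mem z.1.2.1 (G.inv_mem z0.1.2.1)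
      · intro z z' hzz
        have h4 := congrArg Subtype.val hzz
        have h5 : z.1.1 * z0.1.1⁻¹ = z'.1.1 * z0.1.1⁻¹ := by
          rw [hc z, hc z']
          exact congrArg _ h4
        exact Subtype.ext (Subtype.ext (mul_right_cancel h5))
    · rw [not_nonempty_iff] at hne
      rw [Nat.card_of_isEmpty]
      exact Nat.zero_le _

/-- the norm one torus is large -/
theorem card_tor {Q : ℕ} (hQ : 1 < Q) (hL : Nat.card L = Q ^ 2) : Q + 1 ≤ Nat.card {t : Lˣ // t ^ (Q + 1) = 1} := by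
  classical
  have := Fintype.ofFinite L
  have hc : Nat.card Lˣ = (Q - 1) * (Q + 1) := by
    rw [Nat.card_units, hL]
    obtain ⟨m, rfl⟩ : ∃ m, Q = m + 1 := ⟨Q - 1, by omega⟩
    rw [Nat.add_sub_cancel]
    apply Nat.sub_eq_of_eq_add
    ring
  have h1 := card_le_mul (α := Lˣ) (β := {t : Lˣ // t ^ (Q + 1) = 1}) (fun x => ⟨x ^ (Q - 1), by
    rw [← pow_mul, ← hc, pow_card_eq_one']⟩) (Q - 1) ?_
  · rw [hc, mul_comm] at h1
    exact Nat.le_of_mul_le_mul_right h1 (by omega)
  · intro b
    by_cases hne : Nonempty {a : Lˣ // (⟨a ^ (Q - 1), by rw [← pow_mul, ← hc, pow_card_eq_one']⟩ :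
        {t : Lˣ // t ^ (Q + 1) = 1}) = b}
    · obtain ⟨z0⟩ := hne
      have h2 : Nat.card {a : Lˣ // a ^ (Q - 1) = 1} ≤ Q - 1 := by
        have h3 : Nat.card (rootsOfUnity (Q - 1) L) ≤ Q - 1 := by
          have : NeZero (Q - 1) := ⟨by omega⟩
          exact card_rootsOfUnity L (Q - 1)
        exact h3
      refine le_trans ?_ h2
      refine Nat.card_le_card_of_injective (fun z => ⟨z.1 * z0.1⁻¹, ?_⟩) ?_
      · rw [mul_pow, inv_pow]
        have h4 := congrArg Subtype.val (z.2.trans z0.2.symm)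
        have h5 : z.1 ^ (Q - 1) = z0.1 ^ (Q - 1) := h4
        rw [h5, mul_inv_cancel]
      · intro z z' h
        exact Subtype.ext (mul_right_cancel (congrArg Subtype.val h))
    · rw [not_nonempty_iff] at hne
      rw [Nat.card_of_isEmpty]
      exact Nat.zero_le _

theorem card_pow_le (m : ℕ) (hm : 0 < m) : Nat.card {t : Lˣ // t ^ m = 1} ≤ m := by
  have := Fintype.ofFinite L
  have h3 : Nat.card (rootsOfUnity m L) ≤ m := by
    have : NeZero m := ⟨by omega⟩
    exact card_rootsOfUnity L m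
  exact h3

theorem pow_pow_eq {t : Lˣ} {q e : ℕ} (h : t ^ q ^ e = t) (m : ℕ) : t ^ q ^ (e * m) = t := by
  induction m with
  | zero => simp
  | succ m ih => rw [mul_add, mul_one, pow_add, pow_mul, ih, h]

/-- a non-generating element of the torus -/
theorem nongen {j : ℕ} (hj : finrank F L = 2 * j) (hj0 : 0 < j) {t : Lˣ} (ht : t ^ (Nat.card F ^ j + 1) = 1)
    (hg : F⟮(t : L)⟯ ≠ ⊤) : t ^ 2 = 1 ∨ ∃ e ∈ Finset.Icc 1 (j / 3), t ^ (Nat.card F ^ e + 1) = 1 := by
  have hF : Finite F := Finite.of_injective _ (algebraMap F L).injective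
  have hfd : FiniteDimensional F L := Module.Finite.of_finite
  set q := Nat.card F with hq
  set e := finrank F F⟮(t : L)⟯ with he
  have h0 : e * finrank F⟮(t : L)⟯ L = 2 * j := by rw [← hj]; exact Module.finrank_mul_finrank _ _ _
  have h1 : t ^ q ^ e = t := by
    apply Units.ext
    have h2 := pow_card_of_mem (IntermediateField.mem_adjoin_simple_self F (t : L))
    rw [Module.natCard_eq_pow_finrank (K := F)] at h2
    rw [Units.val_pow_eq_pow_val]
    exact h2
  obtain ⟨m, hm⟩ : ∃ m, e * m = 2 * j := ⟨_, h0⟩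
  have hm1 : m ≠ 1 := by
    rintro rfl
    apply hg
    rw [mul_one] at hm
    have h3 : finrank F F⟮(t : L)⟯ = finrank F L := by rw [hj, ← hm]
    exact IntermediateField.eq_of_le_of_finrank_eq le_top (by rw [h3, IntermediateField.finrank_top'])
  rcases Nat.even_or_odd m with ⟨m', hm'⟩ | ⟨m', hm'⟩
  · left
    have h4 : e * m' = j := by
      have : 2 * (e * m') = 2 * j := by rw [← hm, hm']; ring
      omega
    have h5 := pow_pow_eq h1 m'
    rw [h4] at h5
    rw [pow_succ, h5, ← pow_two] at ht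
    exact ht
  · right
    have h6 : Even e := by
      by_contra h7
      rw [Nat.not_even_iff_odd] at h7
      have h8 : Odd (e * m) := h7.mul ⟨m', hm'⟩
      rw [hm] at h8
      exact (Nat.not_odd_iff_even.2 (even_two_mul j)) h8
    obtain ⟨e', he'⟩ := h6
    have h9 : e' * m = j := by
      have : 2 * (e' * m) = 2 * j := by rw [← hm, he']; ring
      omega
    have hm3 : 3 ≤ m := by omega
    have he0 : e' ≠ 0 := by
      rintro rfl
      omega
    refine ⟨e', Finset.mem_Icc.2 ⟨by omega, ?_⟩, ?_⟩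
    · rw [Nat.le_div_iff_mul_le (by norm_num)]
      calc e' * 3 ≤ e' * m := Nat.mul_le_mul_left _ hm3
        _ = j := h9
    · have h10 : j = e * m' + e' := by rw [← h9, hm', he']; ring
      have h11 : t ^ q ^ j = t ^ q ^ e' := by
        rw [h10, pow_add, pow_mul, pow_pow_eq h1]
      rw [pow_succ, h11, ← pow_succ] at ht
      exact ht

theorem card_bad {j : ℕ} (hj : finrank F L = 2 * j) (hj0 : 0 < j) :
    Nat.card {t : Lˣ // t ^ (Nat.card F ^ j + 1) = 1 ∧ F⟮(t : L)⟯ ≠ ⊤} ≤
      2 + ∑ e ∈ Finset.Icc 1 (j / 3), (Nat.card F ^ e + 1) := by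
  classical
  have := Fintype.ofFinite L
  let S : Finset Lˣ := (Finset.univ.filter fun t : Lˣ => t ^ 2 = 1) ∪
    (Finset.Icc 1 (j / 3)).biUnion fun e => Finset.univ.filter fun t : Lˣ => t ^ (Nat.card F ^ e + 1) = 1
  have hc : ∀ m : ℕ, 0 < m → (Finset.univ.filter fun t : Lˣ => t ^ m = 1).card ≤ m := by
    intro m hm
    have h := card_pow_le (L := L) m hm
    rwa [Nat.card_eq_fintype_card, Fintype.card_subtype] at h
  have h1 : S.card ≤ 2 + ∑ e ∈ Finset.Icc 1 (j / 3), (Nat.card F ^ e + 1) := by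
    refine (Finset.card_union_le _ _).trans (Nat.add_le_add (hc 2 (by norm_num)) ?_)
    exact Finset.card_biUnion_le.trans (Finset.sum_le_sum fun e _ => hc _ (by omega))
  refine le_trans ?_ h1
  rw [← Fintype.card_coe, ← Nat.card_eq_fintype_card]
  refine Nat.card_le_card_of_injective (fun t => (⟨t.1, ?_⟩ : S)) fun t t' h => Subtype.ext
    (congrArg (fun z : S => z.1) h)
  rw [Finset.mem_union]
  rcases nongen hj hj0 t.2.1 t.2.2 with h | ⟨e, he, h⟩
  · exact Or.inl (Finset.mem_filter.2 ⟨Finset.mem_univ _, h⟩)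
  · exact Or.inr (Finset.mem_biUnion.2 ⟨e, he, Finset.mem_filter.2 ⟨Finset.mem_univ _, h⟩⟩)

end Field

theorem sum_le {q : ℕ} (hq : 2 ≤ q) (m : ℕ) : ∑ e ∈ Finset.Icc 1 m, (q ^ e + 1) + 2 ≤ 2 * q ^ m + m := by
  induction m with
  | zero => simp
  | succ m ih =>
    rw [Finset.sum_Icc_succ_top (by omega)]
    have h1 : 2 * q ^ m ≤ q ^ (m + 1) := by
      rw [pow_succ, mul_comm]
      exact Nat.mul_le_mul_left _ hq
    omega

/-- numerical estimate -/
theorem num {q j : ℕ} (hq : 2 ≤ q) :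
    ((2 + ∑ e ∈ Finset.Icc 1 (j / 3), (q ^ e + 1) : ℕ) : ℝ) ≤ 16 * (4 / 5 : ℝ) ^ j * (q ^ j + 1) := by
  obtain ⟨m, r, hr, rfl⟩ : ∃ m r, r < 3 ∧ j = 3 * m + r := ⟨j / 3, j % 3, Nat.mod_lt _ (by norm_num), (Nat.div_add_mod j 3).symm⟩
  have h3 : (3 * m + r) / 3 = m := by omega
  rw [h3]
  have h1 : 2 + ∑ e ∈ Finset.Icc 1 m, (q ^ e + 1) ≤ 2 * q ^ m + m := by
    have := sum_le hq m
    omega
  have h2 : m + 1 ≤ q ^ m := Nat.lt_pow_self hq
  have h4 : 2 + ∑ e ∈ Finset.Icc 1 m, (q ^ e + 1) ≤ 3 * q ^ m := by omega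
  have h5 : ((2 + ∑ e ∈ Finset.Icc 1 m, (q ^ e + 1) : ℕ) : ℝ) ≤ 3 * (q : ℝ) ^ m := by exact_mod_cast h4
  refine h5.trans ?_
  have hq' : (2 : ℝ) ≤ q := by exact_mod_cast hq
  have h6 : (q : ℝ) ≤ (4 / 5 * q) ^ 3 := by nlinarith [sq_nonneg ((q : ℝ) - 2), sq_nonneg (q : ℝ)]
  have h7 : (1 : ℝ) ≤ 4 / 5 * q := by linarith
  have h8 : (q : ℝ) ^ m ≤ (4 / 5 * q) ^ (3 * m + r) := by
    calc (q : ℝ) ^ m ≤ ((4 / 5 * q) ^ 3) ^ m := pow_le_pow_left₀ (by linarith) h6 m
      _ = (4 / 5 * q) ^ (3 * m) := by rw [← pow_mul]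
      _ ≤ (4 / 5 * q) ^ (3 * m + r) := pow_le_pow_right₀ h7 (by omega)
  rw [mul_pow] at h8
  have h9 : (0 : ℝ) < (4 / 5 : ℝ) ^ (3 * m + r) := by positivity
  nlinarith [h8, h9, pow_pos (show (0 : ℝ) < q by linarith) m]

end Cfsg.Agent.H59.Bs
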